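import Mathlib
import Groth.Agent.Lib.Helper5.JacDim.A
import Groth.Agent.Lib.Helper5.OmegaDim.A
import Groth.Agent.Lib.Helper5.SmVar.A

set_option autoImplicit false
universe u

open TensorProduct IsLocalRing KaehlerDifferential

namespace Groth.Agent.H5.EtPoly

section
variable (k : Type u) [Field k] (A : Type u) [CommRing A] [Algebra k A] [Algebra.FiniteType k A]

/-- the residue field at a maximal ideal of a finite type algebra has transcendence degree 0. -/
theorem trdeg_residueField_maximal (m : Ideal A) [m.IsMaximal] :
    Algebra.trdeg k m.ResidueField = 0 := by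
  rw [Groth.Agent.H5.OmegaDim.trdeg_residueField k A m]
  letI := Ideal.Quotient.field m
  haveI : Module.Finite k (A ⧸ m) := finite_of_finite_type_of_isJacobsonRing k (A ⧸ m)
  haveI : Algebra.IsAlgebraic k (A ⧸ m) := Algebra.IsAlgebraic.of_finite k (A ⧸ m)
  exact trdeg_eq_zero

/-- for a prime `q` at which `A` is smooth over `k`:
`dim_κ (κ ⊗ Ω_{A/k}) = dim A_q + trdeg κ(q)`. -/
theorem finrank_fibre_of_formallySmooth (q : Ideal A) [q.IsPrime]
    [Algebra.FormallySmooth k (Localization.AtPrime q)] (nd : ℕ)
    (hnd : ringKrullDim (Localization.AtPrime q) = nd) :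
    Module.finrank q.ResidueField (q.ResidueField ⊗[A] Ω[A⁄k]) =
      nd + Cardinal.toNat (Algebra.trdeg k q.ResidueField) := by
  haveI : IsNoetherianRing A := Algebra.FiniteType.isNoetherianRing k A
  haveI : IsNoetherianRing (Localization.AtPrime q) :=
    IsLocalization.isNoetherianRing q.primeCompl _ inferInstance
  haveI : Algebra.EssFiniteType k q.ResidueField := Algebra.EssFiniteType.comp k A _
  obtain ⟨-, hrk⟩ := Groth.Agent.H5.KD.finrank_residue_tensor_kaehler (k := k)
    (A := Localization.AtPrime q)
    (Groth.Agent.H5.GR.isAdicFormallySmooth_of_formallySmooth k _ _) nd hnd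
  rw [(Groth.Agent.H5.SmTower.e₂ k A q).finrank_eq]
  exact hrk

end

section main
variable (k : Type u) [Field k] (n : ℕ) (A : Type u) [CommRing A] [Algebra k A]
  [Algebra (MvPolynomial (Fin n) k) A] [IsScalarTower k (MvPolynomial (Fin n) k) A]
  [Algebra.FiniteType (MvPolynomial (Fin n) k) A]

local notation "P" => MvPolynomial (Fin n) k

/-- the differentials of the coordinate functions. -/
noncomputable def dx (i : Fin n) : Ω[A⁄k] := D k A (algebraMap P A (MvPolynomial.X i))

theorem finrank_kaehler_mvPolynomial : Module.finrank P Ω[P⁄k] = n := by
  rw [Module.finrank_eq_card_basis (KaehlerDifferential.mvPolynomialBasis k (Fin n)),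
    Fintype.card_fin]

theorem range_map_le_span (ω : Ω[P⁄k]) :
    KaehlerDifferential.map k k P A ω ∈ Submodule.span A (Set.range (dx k n A)) := by
  have hω : ω ∈ Submodule.span P (Set.range (KaehlerDifferential.mvPolynomialBasis k (Fin n))) := by
    rw [Module.Basis.span_eq]; trivial
  induction hω using Submodule.span_induction with
  | mem y hy =>
    obtain ⟨i, rfl⟩ := hy
    rw [KaehlerDifferential.mvPolynomialBasis_apply, KaehlerDifferential.map_D]
    exact Submodule.subset_span ⟨i, rfl⟩
  | zero => simp
  | add y z _ _ hy hz => rw [map_add]; exact add_mem hy hz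
  | smul c y _ hy =>
    rw [map_smul, ← algebraMap_smul A c]
    exact Submodule.smul_mem _ _ hy

theorem formallyUnramified_iff_span :
    Algebra.FormallyUnramified P A ↔ Submodule.span A (Set.range (dx k n A)) = ⊤ := by
  rw [Algebra.formallyUnramified_iff]
  constructor
  · intro h
    rw [eq_top_iff]
    rintro ω -
    have hex := KaehlerDifferential.exact_mapBaseChange_map k P A
    obtain ⟨y, rfl⟩ := (hex ω).mp (Subsingleton.elim _ _)
    induction y using TensorProduct.induction_on with
    | zero => simp
    | add x y hx hy => rw [map_add]; exact add_mem hx hy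
    | tmul a ω' =>
      rw [KaehlerDifferential.mapBaseChange_tmul]
      exact Submodule.smul_mem _ _ (range_map_le_span k n A ω')
  · intro h
    refine ⟨fun a b => ?_⟩
    suffices ∀ ω' : Ω[A⁄P], ω' = 0 by rw [this a, this b]
    intro ω'
    obtain ⟨ω, rfl⟩ := KaehlerDifferential.map_surjective k P A ω'
    have hω : ω ∈ Submodule.span A (Set.range (dx k n A)) := h ▸ Submodule.mem_top
    induction hω using Submodule.span_induction with
    | mem y hy =>
      obtain ⟨i, rfl⟩ := hy
      rw [dx, KaehlerDifferential.map_D]
      simp
    | zero => simp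
    | add y z _ _ hy hz => rw [map_add, hy, hz, add_zero]
    | smul c y _ hy => rw [map_smul, hy, smul_zero]


theorem main :
    Algebra.Etale P A ↔
      (∀ (m : Ideal A) [m.IsMaximal], ringKrullDim (Localization.AtPrime m) = n) ∧
        Submodule.span A (Set.range fun i : Fin n =>
          KaehlerDifferential.D k A (algebraMap P A (MvPolynomial.X i))) = ⊤ := by
  haveI : Algebra.FiniteType k A :=
    Algebra.FiniteType.trans (inferInstance : Algebra.FiniteType k P) inferInstance
  haveI : IsNoetherianRing A := Algebra.FiniteType.isNoetherianRing k A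
  haveI hFP : Algebra.FinitePresentation P A :=
    Algebra.FinitePresentation.of_finiteType.mp inferInstance
  have hspan_iff := formallyUnramified_iff_span k n A
  change _ ↔ _ ∧ Submodule.span A (Set.range (dx k n A)) = ⊤
  constructor
  · intro het
    haveI : Algebra.FormallyEtale P A := het.1
    refine ⟨?_, hspan_iff.mp inferInstance⟩
    intro m _
    haveI : Nontrivial A := (algebraMap A m.ResidueField).domain_nontrivial
    haveI : Algebra.FormallySmooth P A :=
      (Algebra.FormallyEtale.iff_formallyUnramified_and_formallySmooth.mp inferInstance).2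
    haveI : Algebra.FormallySmooth k A := Algebra.FormallySmooth.comp k P A
    haveI : Algebra.FormallySmooth A (Localization.AtPrime m) :=
      Algebra.FormallySmooth.of_isLocalization m.primeCompl
    haveI : Algebra.FormallySmooth k (Localization.AtPrime m) :=
      Algebra.FormallySmooth.comp k A _
    haveI : IsNoetherianRing (Localization.AtPrime m) :=
      IsLocalization.isNoetherianRing m.primeCompl _ inferInstance
    obtain ⟨nd, hnd⟩ := Groth.Agent.H5.JacDim.exists_nat_ringKrullDim (Localization.AtPrime m)
    have h1 := finrank_fibre_of_formallySmooth k A m nd hnd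
    rw [trdeg_residueField_maximal k A m] at h1
    let eΩ : A ⊗[P] Ω[P⁄k] ≃ₗ[A] Ω[A⁄k] :=
      KaehlerDifferential.tensorKaehlerEquivOfFormallyEtale k P A
    haveI : Module.Free A Ω[A⁄k] := Module.Free.of_equiv eΩ
    have h2 : Module.finrank m.ResidueField (m.ResidueField ⊗[A] Ω[A⁄k]) = n := by
      rw [Module.finrank_baseChange, ← eΩ.finrank_eq, Module.finrank_baseChange,
        finrank_kaehler_mvPolynomial]
    rw [h2, map_zero, add_zero] at h1
    rw [hnd, h1]
  · rintro ⟨hdim, hspan⟩
    haveI hunr : Algebra.FormallyUnramified P A := hspan_iff.mpr hspan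
    refine ⟨Algebra.FormallyEtale.iff_formallyUnramified_and_formallySmooth.mpr ⟨hunr, ?_⟩, hFP⟩
    rw [← Algebra.smoothLocus_eq_univ_iff]
    apply Groth.Agent.H5.SmVar.eq_univ_of_isOpen_of_maximal A _ Algebra.isOpen_smoothLocus
    intro m hm
    haveI := hm
    show Algebra.FormallySmooth P (Localization.AtPrime m)
    haveI : IsNoetherianRing (Localization.AtPrime m) :=
      IsLocalization.isNoetherianRing m.primeCompl _ inferInstance
    -- the fibre of Ω has dimension ≤ n
    have hle : Module.finrank m.ResidueField (m.ResidueField ⊗[A] Ω[A⁄k]) ≤ n := by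
      have key : ∀ ω : Ω[A⁄k], (1 : m.ResidueField) ⊗ₜ[A] ω ∈ Submodule.span m.ResidueField
          (Set.range fun i : Fin n => (1 : m.ResidueField) ⊗ₜ[A] dx k n A i) := by
        intro ω
        have hω : ω ∈ Submodule.span A (Set.range (dx k n A)) := hspan ▸ Submodule.mem_top
        induction hω using Submodule.span_induction with
        | mem y hy =>
          obtain ⟨i, rfl⟩ := hy
          exact Submodule.subset_span ⟨i, rfl⟩
        | zero => simp
        | add y z _ _ hy hz => rw [TensorProduct.tmul_add]; exact add_mem hy hz
        | smul c y _ hy =>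
          have : (1 : m.ResidueField) ⊗ₜ[A] (c • y) =
              algebraMap A m.ResidueField c • ((1 : m.ResidueField) ⊗ₜ[A] y) := by
            rw [TensorProduct.tmul_smul, algebraMap_smul]
          rw [this]
          exact Submodule.smul_mem _ _ hy
      have hsp : Submodule.span m.ResidueField
          (Set.range fun i : Fin n => (1 : m.ResidueField) ⊗ₜ[A] dx k n A i) = ⊤ := by
        rw [eq_top_iff]
        rintro y -
        induction y using TensorProduct.induction_on with
        | zero => exact zero_mem _
        | add x y hx hy => exact add_mem hx hy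
        | tmul a ω =>
          have : a ⊗ₜ[A] ω = a • ((1 : m.ResidueField) ⊗ₜ[A] ω) := by
            rw [TensorProduct.smul_tmul', smul_eq_mul, mul_one]
          rw [this]
          exact Submodule.smul_mem _ _ (key ω)
      have := finrank_le_of_span_eq_top hsp
      simpa using this
    have hdimm := hdim m
    haveI hFSk : Algebra.FormallySmooth k (Localization.AtPrime m) := by
      apply Groth.Agent.H5.JacDim.formallySmooth_localization_of_dim k A m
      rw [hdimm]
      exact_mod_cast hle
    have h1 := finrank_fibre_of_formallySmooth k A m n hdimm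
    rw [trdeg_residueField_maximal k A m, map_zero, add_zero] at h1
    -- apply the local criterion
    haveI : Module.Finite (Localization.AtPrime m) Ω[Localization.AtPrime m⁄k] := inferInstance
    haveI : Module.Projective (Localization.AtPrime m) Ω[Localization.AtPrime m⁄k] := inferInstance
    haveI : Module.Free (Localization.AtPrime m) Ω[Localization.AtPrime m⁄k] :=
      Module.free_of_flat_of_isLocalRing
    rw [Groth.Agent.H5.SmTower.local_criterion k P (Localization.AtPrime m)]
    haveI : Algebra.FormallyUnramified A (Localization.AtPrime m) :=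
      Algebra.FormallyUnramified.of_isLocalization m.primeCompl
    haveI : Algebra.FormallyUnramified P (Localization.AtPrime m) :=
      Algebra.FormallyUnramified.comp P A _
    have hsurj : Function.Surjective (KaehlerDifferential.mapBaseChange k P (Localization.AtPrime m)) := by
      have hex := KaehlerDifferential.exact_mapBaseChange_map k P (Localization.AtPrime m)
      intro y
      exact (hex y).mp (Subsingleton.elim _ _)
    have hsurj' : Function.Surjective ((KaehlerDifferential.mapBaseChange k P
        (Localization.AtPrime m)).baseChange (ResidueField (Localization.AtPrime m))) :=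
      LinearMap.lTensor_surjective _ hsurj
    have hfr1 : Module.finrank (ResidueField (Localization.AtPrime m))
        (ResidueField (Localization.AtPrime m) ⊗[Localization.AtPrime m]
          (Localization.AtPrime m ⊗[P] Ω[P⁄k])) = n := by
      rw [Module.finrank_baseChange, Module.finrank_baseChange, finrank_kaehler_mvPolynomial]
    have hfr2 : Module.finrank (ResidueField (Localization.AtPrime m))
        (ResidueField (Localization.AtPrime m) ⊗[Localization.AtPrime m]
          Ω[Localization.AtPrime m⁄k]) = n := by
      rw [← (Groth.Agent.H5.SmTower.e₂ k A m).finrank_eq]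
      exact h1
    exact (LinearMap.injective_iff_surjective_of_finrank_eq_finrank (hfr1.trans hfr2.symm)).mpr hsurj'

end main

end Groth.Agent.H5.EtPoly
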